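import Cfsg.Agent.Glauberman.NormalSylow.Prep
import Cfsg.Agent.Chars.Induced.Gallagher
import Cfsg.Agent.Chars.Induced.Relative
import Cfsg.Agent.Chars.Induced.Covering

/-!
# Characters of degree prime to `p` over a character of a subgroup

Counting along an embedding, invariance of the count under isomorphisms and the Clifford
correspondence for the count.
-/

set_option autoImplicit false

namespace CfsgLib.McKay

open Cfsg CfsgLib.Glauberman CfsgLib.Chars.Induced

universe u v

variable {G : Type u} [Group G] [Fintype G]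

/-- The number of irreducible characters of degree prime to `p` over `ν` along `i`. -/
noncomputable def cnt (p : ℕ) {G : Type u} [Group G] {L : Type v} [Group L] [Fintype L]
    (i : L →* G) (ν : IrrCharacter L) : ℕ :=
  Nat.card {χ : IrrCharacter G //
    ¬ p ∣ Cfsg.charDegree (χ : G → ℂ) ∧ CfsgLib.Glauberman.mult i χ ν ≠ 0}

/-- The count does not depend on names. -/
theorem cnt_congr (p : ℕ) {G' : Type u} [Group G'] {L : Type v} [Group L] [Fintype L]
    {L' : Type v} [Group L'] [Fintype L'] (i : L →* G) (i' : L' →* G') (e : G ≃* G') (f : L ≃* L')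
    (h : ∀ l, e (i l) = i' (f l)) (ν : IrrCharacter L) :
    cnt p i ν = cnt p i' (irrPull f.symm ν) := by
  let E : IrrCharacter G ≃ IrrCharacter G' :=
    { toFun := irrPull e.symm
      invFun := irrPull e
      left_inv := fun χ => Subtype.ext (funext fun g => by simp)
      right_inv := fun χ => Subtype.ext (funext fun g => by simp) }
  refine Nat.card_congr (E.subtypeEquiv fun χ => ?_)
  have hd : Cfsg.charDegree (irrPull e.symm χ : G' → ℂ) = Cfsg.charDegree (χ : G → ℂ) := by
    apply Nat.cast_injective (R := ℂ)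
    rw [CfsgLib.Chars.coe_charDegree, CfsgLib.Chars.coe_charDegree, irrPull_apply, map_one]
  have hm : CfsgLib.Glauberman.mult i' (irrPull e.symm χ) (irrPull f.symm ν) =
      CfsgLib.Glauberman.mult i χ ν := by
    apply mult_eq_of_classInner_eq
    rw [← CfsgLib.Glauberman.classInner_eq_mult]
    simp only [classInner, irrPull_apply, Nat.card_congr f.symm.toEquiv]
    congr 1
    refine Fintype.sum_equiv f.symm.toEquiv _ _ fun l => ?_
    have h1 : e.symm (i' l) = i (f.symm l) := by
      rw [MulEquiv.symm_apply_eq, h, f.apply_symm_apply]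
    simp [h1]
  show _ ↔ ¬ p ∣ Cfsg.charDegree (irrPull e.symm χ : G' → ℂ) ∧ _
  rw [hd, show (E χ : IrrCharacter G') = irrPull e.symm χ from rfl, hm]

/-- A restriction has a constituent. -/
theorem exists_under {C : Type v} [Group C] [Fintype C] (e : C →* G) (χ : IrrCharacter G) :
    ∃ β : IrrCharacter C, CfsgLib.Glauberman.mult e χ β ≠ 0 := by
  by_contra hcon
  push Not at hcon
  have h := restrict_eq_sum e χ 1
  simp only [hcon, Nat.cast_zero, zero_mul, Finset.sum_const_zero, map_one] at h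
  exact CfsgLib.Chars.map_one_ne_zero χ h

omit [Fintype G] in
/-- Lying over is transitive. -/
theorem over_trans {B C : Type*} [Group B] [Group C] [Fintype B] [Fintype C] (f : B →* G)
    (e : C →* B) (χ : IrrCharacter G) (β : IrrCharacter B) (γ : IrrCharacter C)
    (h1 : CfsgLib.Glauberman.mult f χ β ≠ 0) (h2 : CfsgLib.Glauberman.mult e β γ ≠ 0) :
    CfsgLib.Glauberman.mult (f.comp e) χ γ ≠ 0 := by
  rw [mult_comp, Ne, Finset.sum_eq_zero_iff]
  exact fun h => Nat.mul_ne_zero_iff.2 ⟨h1, h2⟩ (h β (Finset.mem_univ _))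

omit [Fintype G] in
/-- A constituent of a restriction comes from a constituent in between. -/
theorem exists_between {B C : Type*} [Group B] [Group C] [Fintype B] [Fintype C] (f : B →* G)
    (e : C →* B) (χ : IrrCharacter G) (γ : IrrCharacter C)
    (h : CfsgLib.Glauberman.mult (f.comp e) χ γ ≠ 0) :
    ∃ β, CfsgLib.Glauberman.mult f χ β ≠ 0 ∧ CfsgLib.Glauberman.mult e β γ ≠ 0 := by
  rw [mult_comp] at h
  obtain ⟨β, -, hβ⟩ := Finset.exists_ne_zero_of_sum_ne_zero h
  exact ⟨β, (Nat.mul_ne_zero_iff.1 hβ).1, (Nat.mul_ne_zero_iff.1 hβ).2⟩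

/-- Over a central subgroup there is only one constituent. -/
theorem eq_of_central {Z : Subgroup G} [Fintype Z] (hZ : Z ≤ Subgroup.center G)
    (χ : IrrCharacter G) (l l' : IrrCharacter Z) (h : CfsgLib.Glauberman.mult Z.subtype χ l ≠ 0)
    (h' : CfsgLib.Glauberman.mult Z.subtype χ l' ≠ 0) : l = l' := by
  haveI : Z.Normal := ⟨fun z hz g => by
    rw [Subgroup.mem_center_iff.1 (hZ hz) g, mul_inv_cancel_right]; exact hz⟩
  obtain ⟨x, rfl⟩ := NormalSylow.mem_conjOrbit χ l l' h h'
  refine Subtype.ext (funext fun z => ?_)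
  rw [conjIrr_coe, conjFun_apply]
  refine congrArg (l : Z → ℂ) (Subtype.ext ?_)
  show (z : G) = x⁻¹ * (z : G) * x
  rw [Subgroup.mem_center_iff.1 (hZ z.2) x⁻¹, inv_mul_cancel_right]

/-- The degree over an irreducible character of a normal subgroup. -/
theorem exists_degree_eq {L : Subgroup G} [L.Normal] [Fintype L] (χ : IrrCharacter G)
    (ν : IrrCharacter L) (h : CfsgLib.Glauberman.mult L.subtype χ ν ≠ 0) :
    Cfsg.charDegree (χ : G → ℂ) = CfsgLib.Glauberman.mult L.subtype χ ν *
      (inertia L (ν : L → ℂ)).index * Cfsg.charDegree (ν : L → ℂ) := by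
  have h2 := NormalSylow.mult_eq_induced L.subtype χ ν
  simp only [Subgroup.coe_subtype] at h2
  apply Nat.cast_injective (R := ℂ)
  push_cast
  rw [CfsgLib.Chars.coe_charDegree, CfsgLib.Chars.coe_charDegree,
    clifford_one χ ν (by rwa [h2]), h2]

/-- The Clifford correspondence for the count. -/
theorem cnt_inertia_top {p : ℕ} (hp : p.Prime) {L : Subgroup G} [L.Normal] [Fintype L]
    (ν : IrrCharacter L) (T : Subgroup G) [Fintype T] (hT : T = inertia L (ν : L → ℂ)) (hLT : L ≤ T)
    (hidx : ¬ p ∣ T.index) : cnt p L.subtype ν = cnt p (Subgroup.inclusion hLT) ν := by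
  classical
  have hcomp : L.subtype = T.subtype.comp (Subgroup.inclusion hLT) := MonoidHom.ext fun _ => rfl
  have hdeg : ∀ (χ : IrrCharacter G) (ψ : IrrCharacter T),
      CfsgLib.Glauberman.mult (Subgroup.inclusion hLT) ψ ν ≠ 0 →
      CfsgLib.Glauberman.mult T.subtype χ ψ ≠ 0 →
      Cfsg.charDegree (χ : G → ℂ) = T.index * Cfsg.charDegree (ψ : T → ℂ) := by
    intro χ ψ h1 h2
    have h1' : CfsgLib.Chars.Induced.mult
        (fun n : L => (ψ : T → ℂ) (Subgroup.inclusion hLT n)) ν ≠ 0 := by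
      rwa [NormalSylow.mult_eq_induced (Subgroup.inclusion hLT) ψ ν]
    have h3 : CfsgLib.Chars.Induced.mult (indFun T (ψ : T → ℂ)) χ ≠ 0 := by
      rw [mult_indFun_irr]
      have h4 := NormalSylow.mult_eq_induced T.subtype χ ψ
      simp only [Subgroup.coe_subtype] at h4
      rwa [h4]
    apply Nat.cast_injective (R := ℂ)
    push_cast
    rw [CfsgLib.Chars.coe_charDegree, CfsgLib.Chars.coe_charDegree,
      ← (indFun_eq_of_mult_ne_zero hT hLT ψ h1' χ h3).1, indFun_one_apply]
  symm
  have hup : ∀ ψ : {ψ : IrrCharacter T // ¬ p ∣ Cfsg.charDegree (ψ : T → ℂ) ∧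
      CfsgLib.Glauberman.mult (Subgroup.inclusion hLT) ψ ν ≠ 0},
      ∃ χ : {χ : IrrCharacter G // ¬ p ∣ Cfsg.charDegree (χ : G → ℂ) ∧
        CfsgLib.Glauberman.mult L.subtype χ ν ≠ 0},
        CfsgLib.Glauberman.mult T.subtype χ.1 ψ.1 ≠ 0 := by
    rintro ⟨ψ, hψ1, hψ2⟩
    obtain ⟨χ, h1, h2, -⟩ := NormalSylow.clifford_up L ν T hT hLT ψ hψ2
    refine ⟨⟨χ, ?_, h1⟩, by rw [h2]; exact one_ne_zero⟩
    rw [hdeg χ ψ hψ2 (by rw [h2]; exact one_ne_zero)]
    exact fun hd => (hp.dvd_mul.1 hd).elim hidx hψ1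
  choose F hF using hup
  refine Nat.card_congr (Equiv.ofBijective F ⟨?_, ?_⟩)
  · intro a b hab
    obtain ⟨ψ, -, -, hu⟩ := NormalSylow.clifford_down L ν T hT hLT (F a).1 (F a).2.2
    have ha : a.1 = ψ := by_contra fun hne => hF a (hu a.1 a.2.2 hne)
    have hb : b.1 = ψ := by_contra fun hne => hF b (by rw [← hab]; exact hu b.1 b.2.2 hne)
    exact Subtype.ext (ha.trans hb.symm)
  · rintro ⟨χ, hχ1, hχ2⟩
    obtain ⟨ψ, hψ, hψ1, -⟩ := NormalSylow.clifford_down L ν T hT hLT χ hχ2
    have h0 : CfsgLib.Glauberman.mult T.subtype χ ψ ≠ 0 := by rw [hψ1]; exact one_ne_zero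
    let a : {ψ : IrrCharacter T // ¬ p ∣ Cfsg.charDegree (ψ : T → ℂ) ∧
        CfsgLib.Glauberman.mult (Subgroup.inclusion hLT) ψ ν ≠ 0} :=
      ⟨ψ, fun hd => hχ1 (by rw [hdeg χ ψ hψ h0]; exact dvd_mul_of_dvd_right hd _), hψ⟩
    refine ⟨a, Subtype.ext ?_⟩
    obtain ⟨χ', -, -, hu⟩ := NormalSylow.clifford_up L ν T hT hLT ψ hψ
    exact (hu _ (hF a)).trans (hu χ h0).symm

/-- The pulled-back character inside an intermediate subgroup. -/
noncomputable def toSub {H L : Subgroup G} (hLH : L ≤ H) (ν : IrrCharacter L) :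
    IrrCharacter (L.subgroupOf H) :=
  irrPull (Subgroup.subgroupOfEquivOfLe hLH) ν

omit [Fintype G] in
/-- Conjugation inside an intermediate subgroup. -/
theorem conjIrr_toSub {H L : Subgroup G} [L.Normal] (hLH : L ≤ H) (x : H) (ν : IrrCharacter L) :
    conjIrr x (toSub hLH ν) = toSub hLH (conjIrr (x : G) ν) := by
  refine Subtype.ext (funext fun z => ?_)
  rw [conjIrr_coe, conjFun_apply, toSub, toSub, irrPull_apply, irrPull_apply, conjIrr_coe,
    conjFun_apply]
  exact congrArg (ν : L → ℂ) (Subtype.ext rfl)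

omit [Fintype G] in
theorem toSub_injective {H L : Subgroup G} (hLH : L ≤ H) :
    Function.Injective (toSub (H := H) hLH) := fun a b h => Subtype.ext (funext fun l => by
  have h1 := congrArg (fun c : IrrCharacter (L.subgroupOf H) =>
    (c : L.subgroupOf H → ℂ) ((Subgroup.subgroupOfEquivOfLe hLH).symm l)) h
  simpa [toSub] using h1)

omit [Fintype G] in
/-- Multiplicities inside an intermediate subgroup. -/
theorem mult_toSub {H L : Subgroup G} [Fintype H] [Fintype L]
    [Fintype (L.subgroupOf H)] (hLH : L ≤ H)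
    (χ : IrrCharacter H) (ν : IrrCharacter L) :
    CfsgLib.Glauberman.mult (L.subgroupOf H).subtype χ (toSub hLH ν) =
      CfsgLib.Glauberman.mult (Subgroup.inclusion hLH) χ ν := by
  have h : (L.subgroupOf H).subtype =
      (Subgroup.inclusion hLH).comp (Subgroup.subgroupOfEquivOfLe hLH).toMonoidHom :=
    MonoidHom.ext fun _ => rfl
  rw [h]
  exact NormalSylow.mult_comp_equiv _ _ _ _

omit [Fintype G] in
/-- The count inside an intermediate subgroup. -/
theorem cnt_toSub (p : ℕ) {H L : Subgroup G} [Fintype H] [Fintype L]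
    [Fintype (L.subgroupOf H)] (hLH : L ≤ H)
    (ν : IrrCharacter L) :
    cnt p (L.subgroupOf H).subtype (toSub hLH ν) = cnt p (Subgroup.inclusion hLH) ν := by
  unfold cnt
  simp only [mult_toSub]

/-- The Clifford correspondence for the count, inside a subgroup. -/
theorem cnt_inertia {p : ℕ} (hp : p.Prime) {H T L : Subgroup G} [L.Normal] [Fintype L] (hLH : L ≤ H)
    (ν : IrrCharacter L) (hT : T = H ⊓ inertia L (ν : L → ℂ)) (hLT : L ≤ T)
    (hidx : ¬ p ∣ T.relIndex H) :
    cnt p (Subgroup.inclusion hLH) ν = cnt p (Subgroup.inclusion hLT) ν := by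
  classical
  have hTH : T ≤ H := hT ▸ inf_le_left
  haveI := Fintype.ofFinite H
  haveI := Fintype.ofFinite (L.subgroupOf H)
  haveI := Fintype.ofFinite (T.subgroupOf H)
  have hT' : T.subgroupOf H = inertia (L.subgroupOf H) (toSub hLH ν : L.subgroupOf H → ℂ) := by
    ext x
    rw [Subgroup.mem_subgroupOf, hT, Subgroup.mem_inf, mem_inertia, mem_inertia]
    constructor
    · intro h
      have h1 : conjIrr (x : G) ν = ν := Subtype.ext (by rw [conjIrr_coe]; exact h.2)
      have h2 := congrArg Subtype.val (conjIrr_toSub hLH x ν)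
      rw [h1, conjIrr_coe] at h2
      exact h2
    · intro h
      have h1 : conjIrr x (toSub hLH ν) = toSub hLH ν := Subtype.ext (by rw [conjIrr_coe]; exact h)
      rw [conjIrr_toSub] at h1
      have h2 := congrArg Subtype.val (toSub_injective hLH h1)
      rw [conjIrr_coe] at h2
      exact ⟨x.2, h2⟩
  have hLT' : L.subgroupOf H ≤ T.subgroupOf H := fun x hx => hLT hx
  rw [← cnt_toSub p hLH ν, cnt_inertia_top hp (toSub hLH ν) (T.subgroupOf H) hT' hLT' hidx]
  rw [cnt_congr p (Subgroup.inclusion hLT') (Subgroup.inclusion hLT)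
    (Subgroup.subgroupOfEquivOfLe hTH) (Subgroup.subgroupOfEquivOfLe hLH) (fun l => rfl)]
  congr 1

/-- Lying over, written with a sum. -/
theorem mult_ne_zero_iff_finsum {L : Type v} [Group L] [Fintype L] (i : L →* G)
    (χ : IrrCharacter G) (ν : IrrCharacter L) :
    CfsgLib.Glauberman.mult i χ ν ≠ 0 ↔
      (∑ᶠ l : L, (χ : G → ℂ) (i l) * (starRingEnd ℂ) ((ν : L → ℂ) l)) ≠ 0 := by
  rw [finsum_eq_sum_of_fintype]
  have h := CfsgLib.Glauberman.classInner_eq_mult i χ ν
  simp only [classInner] at h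
  have hc : (Nat.card L : ℂ)⁻¹ ≠ 0 := inv_ne_zero (Nat.cast_ne_zero.2 Nat.card_pos.ne')
  constructor
  · intro hm h0
    rw [h0, mul_zero] at h
    exact hm (by exact_mod_cast h.symm)
  · intro hs hm
    rw [hm, Nat.cast_zero, mul_eq_zero] at h
    exact hs (h.resolve_left hc)

end CfsgLib.McKay
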