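import Cfsg.Agent.McKay.Basic
import Mathlib.LinearAlgebra.Dimension.Finrank
import Mathlib.LinearAlgebra.FiniteDimensional.Basic

/-!
# The number of irreducible characters over an invariant character

It is the number of conjugacy classes of `G / K` consisting of good elements: `x` is good when `θ`
extends to `⟨K, x, y⟩` for every `y` commuting with `x` modulo `K`.
-/

set_option autoImplicit false

namespace CfsgLib.McKay

open Cfsg CfsgLib.Glauberman CfsgLib.Chars.Induced
open scoped ComplexConjugate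

universe u

variable {G : Type u} [Group G]

/-- `θ` extends to `M`. -/
def ExtendsTo {K : Subgroup G} (M : Subgroup G) (θ : IrrCharacter K) : Prop :=
  ∃ h : K ≤ M, ∃ φ : IrrCharacter M,
    ∀ k : K, (φ : M → ℂ) (Subgroup.inclusion h k) = (θ : K → ℂ) k

/-- Good elements. -/
def GoodElt {K : Subgroup G} (θ : IrrCharacter K) (x : G) : Prop :=
  ∀ y : G, y * x * y⁻¹ * x⁻¹ ∈ K → ExtendsTo (K ⊔ Subgroup.closure {x, y}) θ

theorem mul_mem_iff_left' {H : Subgroup G} {a b : G} (hb : b ∈ H) : a * b ∈ H ↔ a ∈ H :=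
  H.mul_mem_cancel_right hb

/-- `⟨K, x⟩ / K` is cyclic. -/
theorem isCyclic_quotient_zpowers {K : Subgroup G} [K.Normal] (x : G) :
    IsCyclic ((K ⊔ Subgroup.zpowers x : Subgroup G) ⧸ K.subgroupOf (K ⊔ Subgroup.zpowers x)) := by
  refine ⟨QuotientGroup.mk ⟨x, Subgroup.mem_sup_right (Subgroup.mem_zpowers x)⟩, fun q => ?_⟩
  obtain ⟨⟨a, ha⟩, rfl⟩ := QuotientGroup.mk_surjective q
  rw [Subgroup.mem_sup_of_normal_left] at ha
  obtain ⟨k, hk, z, hz, rfl⟩ := ha
  obtain ⟨n, rfl⟩ := Subgroup.mem_zpowers_iff.1 hz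
  refine ⟨n, ?_⟩
  show (QuotientGroup.mk _ : _ ⧸ _) ^ n = QuotientGroup.mk _
  rw [← QuotientGroup.mk_zpow, QuotientGroup.eq, Subgroup.mem_subgroupOf]
  have h := ‹K.Normal›.conj_mem k hk (x ^ (-n))
  simpa [mul_assoc] using h

variable [Fintype G] {K : Subgroup G} [K.Normal] [Fintype K]

/-- The character of `K.subgroupOf A` is invariant. -/
theorem toSub_invariant {A : Subgroup G} (hKA : K ≤ A) (θ : IrrCharacter K)
    (hA : ∀ a ∈ A, conjIrr a θ = θ) (a : A) :
    conjFun (K.subgroupOf A) a (toSub hKA θ : K.subgroupOf A → ℂ) = toSub hKA θ := by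
  have h := congrArg Subtype.val (conjIrr_toSub hKA a θ)
  rw [hA a a.2, conjIrr_coe] at h
  exact h

/-- An extension to `⟨K, x⟩`. -/
theorem extendsTo_zpowers (θ : IrrCharacter K) (hθ : ∀ g : G, conjIrr g θ = θ) (x : G) :
    ExtendsTo (K ⊔ Subgroup.zpowers x) θ := by
  classical
  set A := K ⊔ Subgroup.zpowers x
  have := Fintype.ofFinite A
  have := Fintype.ofFinite (K.subgroupOf A)
  have := isCyclic_quotient_zpowers (K := K) x
  obtain ⟨φ, hφ⟩ := exists_extension_of_isCyclic (toSub (le_sup_left : K ≤ A) θ)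
    (toSub_invariant _ θ fun a _ => hθ a)
  refine ⟨le_sup_left, φ, fun k => ?_⟩
  have h := hφ ⟨Subgroup.inclusion le_sup_left k, k.2⟩
  exact h.trans (congrArg (θ : K → ℂ) (Subtype.ext rfl))

/-- The values of an extension on the coset `K x` do not all vanish. -/
theorem exists_ne_zero_coset {A : Subgroup G} (hKA : K ≤ A) (θ : IrrCharacter K)
    (φ : IrrCharacter A) (hφ : ∀ k : K, (φ : A → ℂ) (Subgroup.inclusion hKA k) = (θ : K → ℂ) k)
    {x : G} (hx : x ∈ A) :
    ∃ k : K, (φ : A → ℂ) (Subgroup.inclusion hKA k * ⟨x, hx⟩) ≠ 0 := by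
  classical
  have := Fintype.ofFinite A
  have := Fintype.ofFinite (K.subgroupOf A)
  have h := avg_norm_sq φ (toSub hKA θ)
    (fun n => (hφ ⟨(n : A), n.2⟩)) ⟨x, hx⟩
  by_contra hcon
  push Not at hcon
  rw [Finset.sum_eq_zero, mul_zero] at h
  · exact one_ne_zero h.symm
  · intro n _
    rw [show (n : A) * ⟨x, hx⟩ = Subgroup.inclusion hKA ⟨(n : A), n.2⟩ * ⟨x, hx⟩ from rfl,
      hcon, zero_mul]

/-- On a coset `K x` a character over `θ` is a multiple of an extension. -/
theorem exists_coset_coeff (θ : IrrCharacter K) (hθ : ∀ g : G, conjIrr g θ = θ) {x : G}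
    {A : Subgroup G} (hAdef : A = K ⊔ Subgroup.zpowers x) (hKA : K ≤ A) (hxA : x ∈ A)
    (φ : IrrCharacter A) (hφ : ∀ k : K, (φ : A → ℂ) (Subgroup.inclusion hKA k) = (θ : K → ℂ) k)
    (χ : IrrCharacter G) (hχ : CfsgLib.Glauberman.mult K.subtype χ θ ≠ 0) :
    ∃ c : ℂ, ∀ k : K, (χ : G → ℂ) ((k : G) * x) = c * (φ : A → ℂ)
      (Subgroup.inclusion hKA k * ⟨x, hxA⟩) := by
  classical
  have := Fintype.ofFinite A
  have := Fintype.ofFinite (K.subgroupOf A)
  let xA : A := ⟨x, hxA⟩
  have hmem : ∀ k : K, ((Subgroup.inclusion hKA k * xA : A) : A ⧸ K.subgroupOf A) = (xA : A) := by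
    intro k
    rw [QuotientGroup.mk_mul, (QuotientGroup.eq_one_iff (Subgroup.inclusion hKA k)).2 (Subgroup.mem_subgroupOf.2 k.2),
      one_mul]
  have hc : ∀ β : IrrCharacter A, ∃ b : ℂ, CfsgLib.Glauberman.mult A.subtype χ β ≠ 0 →
      ∀ k : K, (β : A → ℂ) (Subgroup.inclusion hKA k * xA) =
        b * (φ : A → ℂ) (Subgroup.inclusion hKA k * xA) := by
    intro β
    by_cases h : CfsgLib.Glauberman.mult A.subtype χ β ≠ 0
    · obtain ⟨η, hη⟩ := exists_under (Subgroup.inclusion hKA) β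
      have h1 := over_trans A.subtype (Subgroup.inclusion hKA) χ β η h hη
      obtain ⟨g, hg⟩ := NormalSylow.mem_conjOrbit χ θ η hχ h1
      rw [hθ g] at hg
      subst hg
      have h2 : CfsgLib.Chars.Induced.mult
          (fun n : K.subgroupOf A => (β : A → ℂ) n) (toSub hKA θ) ≠ 0 := by
        have h3 := NormalSylow.mult_eq_induced (K.subgroupOf A).subtype β (toSub hKA θ)
        simp only [Subgroup.coe_subtype] at h3
        rw [h3, mult_toSub]
        exact hη
      obtain ⟨β', hβ'⟩ := gallagher_exists φ (toSub hKA θ) (fun n => hφ ⟨(n : A), n.2⟩) β h2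
      refine ⟨(β' : A ⧸ K.subgroupOf A → ℂ) (xA : A), fun _ k => ?_⟩
      rw [hβ']
      simp only [hmem]
      ring
    · exact ⟨0, fun h' => absurd h' h⟩
  choose b hb using hc
  refine ⟨∑ β, (CfsgLib.Glauberman.mult A.subtype χ β : ℂ) * b β, fun k => ?_⟩
  rw [show (k : G) * x = A.subtype (Subgroup.inclusion hKA k * xA) from rfl,
    restrict_eq_sum A.subtype χ, Finset.sum_mul]
  refine Finset.sum_congr rfl fun β _ => ?_
  by_cases h : CfsgLib.Glauberman.mult A.subtype χ β = 0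
  · simp [h]
  · rw [hb β h, mul_assoc]

omit [Fintype G] [Fintype K] in
/-- Goodness is invariant under conjugation and translations by `K`. -/
theorem goodElt_conj (θ : IrrCharacter K) (hθ : ∀ g : G, conjIrr g θ = θ) {x : G}
    (hx : GoodElt θ x) (k : K) (y₀ : G) : GoodElt θ ((k : G) * (y₀ * x * y₀⁻¹)) := by
  intro y hy
  have hy' : (y₀⁻¹ * y * y₀) * x * (y₀⁻¹ * y * y₀)⁻¹ * x⁻¹ ∈ K := by
    have h1 : y * (y₀ * x * y₀⁻¹) * y⁻¹ * (y₀ * x * y₀⁻¹)⁻¹ ∈ K := by
      have h2 : ((y * ((k : G) * (y₀ * x * y₀⁻¹)) * y⁻¹ * ((k : G) * (y₀ * x * y₀⁻¹))⁻¹ : G) : G ⧸ K)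
          = 1 := (QuotientGroup.eq_one_iff _).2 hy
      apply (QuotientGroup.eq_one_iff _).1
      simp only [QuotientGroup.mk_mul, QuotientGroup.mk_inv,
        (QuotientGroup.eq_one_iff (k : G)).2 k.2, one_mul] at h2 ⊢
      exact h2
    have h3 := ‹K.Normal›.conj_mem _ h1 y₀⁻¹
    simpa [mul_assoc] using h3
  set M := K ⊔ Subgroup.closure {x, y₀⁻¹ * y * y₀} with hM
  have hxy : ExtendsTo M θ := hx _ hy'
  obtain ⟨hle, φ, hφ⟩ := hxy
  set M' := K ⊔ Subgroup.closure {(k : G) * (y₀ * x * y₀⁻¹), y} with hM'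
  have hback : M' ≤ M.comap (MulAut.conj y₀⁻¹ : MulAut G).toMonoidHom := by
    refine sup_le (fun g hg => ?_) ((Subgroup.closure_le _).2 ?_)
    · show y₀⁻¹ * g * y₀⁻¹⁻¹ ∈ M
      exact Subgroup.mem_sup_left (‹K.Normal›.conj_mem g hg _)
    · rintro g (rfl | rfl)
      · show y₀⁻¹ * ((k : G) * (y₀ * x * y₀⁻¹)) * y₀⁻¹⁻¹ ∈ M
        rw [show y₀⁻¹ * ((k : G) * (y₀ * x * y₀⁻¹)) * y₀⁻¹⁻¹ =
          (y₀⁻¹ * (k : G) * y₀⁻¹⁻¹) * x by group]
        exact M.mul_mem (Subgroup.mem_sup_left (‹K.Normal›.conj_mem _ k.2 _))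
          (Subgroup.mem_sup_right (Subgroup.subset_closure (Or.inl rfl)))
      · show y₀⁻¹ * g * y₀⁻¹⁻¹ ∈ M
        rw [inv_inv]
        exact Subgroup.mem_sup_right (Subgroup.subset_closure (Or.inr rfl))
  have hforw : M ≤ M'.comap (MulAut.conj y₀ : MulAut G).toMonoidHom := by
    refine sup_le (fun g hg => ?_) ((Subgroup.closure_le _).2 ?_)
    · exact Subgroup.mem_sup_left (‹K.Normal›.conj_mem g hg _)
    · rintro g (rfl | rfl)
      · show y₀ * g * y₀⁻¹ ∈ M'
        rw [show y₀ * g * y₀⁻¹ = (k : G)⁻¹ * ((k : G) * (y₀ * g * y₀⁻¹)) by group]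
        exact M'.mul_mem (Subgroup.mem_sup_left (K.inv_mem k.2))
          (Subgroup.mem_sup_right (Subgroup.subset_closure (Or.inl rfl)))
      · show y₀ * (y₀⁻¹ * y * y₀) * y₀⁻¹ ∈ M'
        rw [show y₀ * (y₀⁻¹ * y * y₀) * y₀⁻¹ = y by group]
        exact Subgroup.mem_sup_right (Subgroup.subset_closure (Or.inr rfl))
  let e : M' ≃* M :=
    { toFun := fun g => ⟨y₀⁻¹ * g * y₀, by simpa using hback g.2⟩
      invFun := fun g => ⟨y₀ * g * y₀⁻¹, hforw g.2⟩
      left_inv := fun g => Subtype.ext (by simp [mul_assoc])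
      right_inv := fun g => Subtype.ext (by simp [mul_assoc])
      map_mul' := fun g h => Subtype.ext (by simp [mul_assoc]) }
  refine ⟨le_sup_left, irrPull e φ, fun n => ?_⟩
  rw [irrPull_apply, show e (Subgroup.inclusion le_sup_left n) =
    Subgroup.inclusion hle ⟨y₀⁻¹ * n * y₀, by simpa using ‹K.Normal›.conj_mem _ n.2 y₀⁻¹⟩ from
      Subtype.ext rfl, hφ]
  have h4 := congrFun (congrArg Subtype.val (hθ y₀)) n
  rw [conjIrr_coe, conjFun_apply] at h4
  exact h4

/-- Goodness from a nonzero coefficient. -/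
theorem goodElt_of_coeff (θ : IrrCharacter K) (hθ : ∀ g : G, conjIrr g θ = θ) {x : G}
    {A : Subgroup G} (hAdef : A = K ⊔ Subgroup.zpowers x) (hKA : K ≤ A) (hxA : x ∈ A)
    (φ : IrrCharacter A) (hφ : ∀ k : K, (φ : A → ℂ) (Subgroup.inclusion hKA k) = (θ : K → ℂ) k)
    (χ : IrrCharacter G) (c : ℂ) (hc0 : c ≠ 0)
    (hc : ∀ k : K, (χ : G → ℂ) ((k : G) * x) = c * (φ : A → ℂ)
      (Subgroup.inclusion hKA k * ⟨x, hxA⟩)) :
    GoodElt θ x := by
  classical
  intro y hy
  set M := K ⊔ Subgroup.closure {x, y} with hMdef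
  have hKM : K ≤ M := le_sup_left
  have hAM : A ≤ M := hAdef ▸ sup_le le_sup_left (Subgroup.zpowers_le.2
    (Subgroup.mem_sup_right (Subgroup.subset_closure (Or.inl rfl))))
  have hyA : ∀ a ∈ A, y * a * y⁻¹ ∈ A := by
    have h : A ≤ A.comap (MulAut.conj y : MulAut G).toMonoidHom := by
      conv_lhs => rw [hAdef]
      refine sup_le (fun g hg => hKA (‹K.Normal›.conj_mem g hg y)) ?_
      rw [Subgroup.zpowers_le]
      show y * x * y⁻¹ ∈ A
      have := A.mul_mem (hKA hy) hxA
      simpa using this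
    exact fun a ha => h ha
  have hMN : M ≤ Subgroup.normalizer (A : Set G) := by
    have hyN : y ∈ Subgroup.normalizer (A : Set G) := by
      have hfin : (A : Set G).Finite := Set.toFinite _
      exact (Subgroup.mem_normalizer_iff_map_conj_eq).2 (by
        refine Subgroup.eq_of_le_of_card_ge ?_ ?_
        · rintro _ ⟨a, ha, rfl⟩
          exact hyA a ha
        · rw [Subgroup.card_map_of_injective (MulAut.conj y : MulAut G).injective])
    refine sup_le (hKA.trans A.le_normalizer) ((Subgroup.closure_le _).2 ?_)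
    rintro g (rfl | rfl)
    · exact A.le_normalizer hxA
    · exact hyN
  have := Fintype.ofFinite A
  have := Fintype.ofFinite M
  have := Fintype.ofFinite (K.subgroupOf A)
  have := Fintype.ofFinite (A.subgroupOf M)
  haveI : (A.subgroupOf M).Normal := Subgroup.normal_subgroupOf_of_le_normalizer hMN
  -- conjugation by `y` fixes `φ`
  let cy : A ≃* A :=
    { toFun := fun a => ⟨y * a * y⁻¹, hyA a a.2⟩
      invFun := fun a => ⟨y⁻¹ * a * y, by
        have h := (Subgroup.mem_normalizer_iff.1 ((Subgroup.normalizer _).inv_mem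
          (hMN (Subgroup.mem_sup_right (Subgroup.subset_closure (Or.inr rfl))))) (a : G)).1 a.2
        simpa using h⟩
      left_inv := fun a => Subtype.ext (by simp [mul_assoc])
      right_inv := fun a => Subtype.ext (by simp [mul_assoc])
      map_mul' := fun a b => Subtype.ext (by simp [mul_assoc]) }
  have hcy : ∀ k : K, cy (Subgroup.inclusion hKA k) =
      Subgroup.inclusion hKA ⟨y * k * y⁻¹, ‹K.Normal›.conj_mem _ k.2 y⟩ := fun k => Subtype.ext rfl
  have hθy : ∀ k : K, (θ : K → ℂ) ⟨y * k * y⁻¹, ‹K.Normal›.conj_mem _ k.2 y⟩ = (θ : K → ℂ) k := by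
    intro k
    have h4 := congrFun (congrArg Subtype.val (hθ y⁻¹)) k
    rw [conjIrr_coe, conjFun_apply] at h4
    conv_rhs => rw [← h4]
    exact congrArg (θ : K → ℂ) (Subtype.ext (by simp))
  have hfix : irrPull cy φ = φ := by
    obtain ⟨β, hβ⟩ := gallagher_exists φ (toSub hKA θ) (fun n => hφ ⟨(n : A), n.2⟩) (irrPull cy φ)
      (by
        have h3 := NormalSylow.mult_eq_induced (K.subgroupOf A).subtype (irrPull cy φ) (toSub hKA θ)
        simp only [Subgroup.coe_subtype] at h3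
        rw [h3, mult_toSub]
        rw [mult_ne_zero_iff_finsum, finsum_eq_sum_of_fintype]
        simp only [irrPull_apply, hcy, hφ, hθy]
        have h5 := CfsgLib.Chars.Induced.classInner_irr_self θ
        intro h0
        simp only [classInner, h0, mul_zero] at h5
        exact zero_ne_one h5)
    have hcycA : IsCyclic (A ⧸ K.subgroupOf A) := by
      subst hAdef
      exact isCyclic_quotient_zpowers (K := K) x
    have hβ1 : (β : A ⧸ K.subgroupOf A → ℂ) 1 = 1 := by
      have h1 := congrFun hβ 1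
      simp only [irrPull_apply, map_one, QuotientGroup.mk_one] at h1
      exact (mul_left_cancel₀ (CfsgLib.Chars.map_one_ne_zero φ) ((mul_one _).trans h1)).symm
    obtain ⟨lam, rfl⟩ := CfsgLib.Chars.exists_linChar_eq β hβ1
    -- compare on the coset of `x`
    obtain ⟨k, hk⟩ := exists_ne_zero_coset hKA θ φ hφ hxA
    let k' : K := ⟨y * ((k : G) * x) * y⁻¹ * x⁻¹, by
      have h := K.mul_mem (‹K.Normal›.conj_mem _ k.2 y) hy
      rwa [show y * ((k : G) * x) * y⁻¹ * x⁻¹ = y * (k : G) * y⁻¹ * (y * x * y⁻¹ * x⁻¹) by group]⟩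
    have hk' : cy (Subgroup.inclusion hKA k * ⟨x, hxA⟩) = Subgroup.inclusion hKA k' * ⟨x, hxA⟩ :=
      Subtype.ext (by simp [cy, k', mul_assoc])
    have h1 : (φ : A → ℂ) (Subgroup.inclusion hKA k' * ⟨x, hxA⟩) =
        (φ : A → ℂ) (Subgroup.inclusion hKA k * ⟨x, hxA⟩) := by
      apply mul_left_cancel₀ hc0
      rw [← hc, ← hc]
      show (χ : G → ℂ) (y * ((k : G) * x) * y⁻¹ * x⁻¹ * x) = _
      rw [inv_mul_cancel_right]
      exact CfsgLib.Chars.isClassFunction_coe χ _ y
    have h2 := congrFun hβ (Subgroup.inclusion hKA k * ⟨x, hxA⟩)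
    simp only [irrPull_apply, hk', h1] at h2
    have h6 : (CfsgLib.Chars.linChar lam : A ⧸ K.subgroupOf A → ℂ)
        ((Subgroup.inclusion hKA k * ⟨x, hxA⟩ : A) : A ⧸ K.subgroupOf A) = 1 :=
      (mul_left_cancel₀ hk ((mul_one _).trans h2)).symm
    have hlam : lam = 1 := by
      refine MonoidHom.ext fun q => ?_
      obtain ⟨⟨a, ha⟩, rfl⟩ := QuotientGroup.mk_surjective q
      have ha' : a ∈ K ⊔ Subgroup.zpowers x := hAdef ▸ ha
      rw [Subgroup.mem_sup_of_normal_left] at ha'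
      obtain ⟨k₁, hk₁, z, hz, rfl⟩ := ha'
      obtain ⟨n, rfl⟩ := Subgroup.mem_zpowers_iff.1 hz
      have hq : ((⟨k₁ * x ^ n, by assumption⟩ : A) : A ⧸ K.subgroupOf A) =
          ((Subgroup.inclusion hKA k * ⟨x, hxA⟩ : A) : A ⧸ K.subgroupOf A) ^ n := by
        rw [QuotientGroup.mk_mul, (QuotientGroup.eq_one_iff (Subgroup.inclusion hKA k)).2 (Subgroup.mem_subgroupOf.2 k.2),
          one_mul, ← QuotientGroup.mk_zpow, QuotientGroup.eq, Subgroup.mem_subgroupOf]
        have h := ‹K.Normal›.conj_mem k₁⁻¹ (K.inv_mem hk₁) (x ^ (-n))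
        simpa [mul_assoc] using h
      have h7 : lam ((Subgroup.inclusion hKA k * ⟨x, hxA⟩ : A) : A ⧸ K.subgroupOf A) = 1 :=
        Units.ext (by simpa using h6)
      rw [hq, map_zpow, h7, one_zpow, MonoidHom.one_apply]
    apply Subtype.ext
    rw [hβ, hlam]
    funext a
    simp
  -- `M / A` is cyclic
  have hcyc : IsCyclic (M ⧸ A.subgroupOf M) := by
    refine ⟨QuotientGroup.mk ⟨y, Subgroup.mem_sup_right (Subgroup.subset_closure (Or.inr rfl))⟩,
      fun q => ?_⟩
    obtain ⟨⟨m, hm⟩, rfl⟩ := QuotientGroup.mk_surjective q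
    have hsplit : M ≤ A ⊔ Subgroup.zpowers y := by
      refine sup_le (hKA.trans le_sup_left) ((Subgroup.closure_le _).2 ?_)
      rintro g (rfl | rfl)
      · exact Subgroup.mem_sup_left hxA
      · exact Subgroup.mem_sup_right (Subgroup.mem_zpowers _)
    have hzN : Subgroup.zpowers y ≤ Subgroup.normalizer (A : Set G) :=
      Subgroup.zpowers_le.2 (hMN (Subgroup.mem_sup_right (Subgroup.subset_closure (Or.inr rfl))))
    have hm' : m ∈ ((A ⊔ Subgroup.zpowers y : Subgroup G) : Set G) := hsplit hm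
    rw [Subgroup.coe_mul_of_right_le_normalizer_left A (Subgroup.zpowers y) hzN] at hm'
    obtain ⟨a, ha, z, hz, rfl⟩ := hm'
    obtain ⟨n, rfl⟩ := Subgroup.mem_zpowers_iff.1 hz
    refine ⟨n, ?_⟩
    show (QuotientGroup.mk _ : _ ⧸ _) ^ n = QuotientGroup.mk _
    rw [← QuotientGroup.mk_zpow, QuotientGroup.eq, Subgroup.mem_subgroupOf]
    have h := (Subgroup.mem_normalizer_iff.1 (hzN (Subgroup.zpow_mem _ (Subgroup.mem_zpowers y) (-n)))
      a).1 ha
    simpa [mul_assoc] using h
  have hinv : ∀ m ∈ M, ∀ a : A, ∀ h : m * a * m⁻¹ ∈ A, (φ : A → ℂ) ⟨m * a * m⁻¹, h⟩ = (φ : A → ℂ) a := by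
    let F : Subgroup G :=
      { carrier := {m | m ∈ M ∧ ∀ a : A, ∀ h : m * a * m⁻¹ ∈ A,
          (φ : A → ℂ) ⟨m * a * m⁻¹, h⟩ = (φ : A → ℂ) a}
        one_mem' := ⟨M.one_mem, fun a h => congrArg (φ : A → ℂ) (Subtype.ext (by simp))⟩
        mul_mem' := fun {m n} hm hn => ⟨M.mul_mem hm.1 hn.1, fun a h => by
          have hn' : n * a * n⁻¹ ∈ A := (Subgroup.mem_normalizer_iff.1 (hMN hn.1) a).1 a.2
          have h1 := hm.2 ⟨_, hn'⟩ ((Subgroup.mem_normalizer_iff.1 (hMN hm.1) _).1 hn')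
          rw [← hn.2 a hn', ← h1]
          exact congrArg (φ : A → ℂ) (Subtype.ext (by simp [mul_assoc]))⟩
        inv_mem' := fun {m} hm => ⟨M.inv_mem hm.1, fun a h => by
          have h1 := hm.2 ⟨_, h⟩ (by simp [mul_assoc])
          rw [← h1]
          exact congrArg (φ : A → ℂ) (Subtype.ext (by simp [mul_assoc]))⟩ }
    have hMF : M ≤ F := by
      refine sup_le (fun g hg => ⟨Subgroup.mem_sup_left hg, fun a h => ?_⟩) ((Subgroup.closure_le _).2 ?_)
      · exact CfsgLib.Chars.isClassFunction_coe φ a ⟨g, hKA hg⟩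
      · rintro g (rfl | rfl)
        · exact ⟨Subgroup.mem_sup_right (Subgroup.subset_closure (Or.inl rfl)), fun a h =>
            CfsgLib.Chars.isClassFunction_coe φ a ⟨g, hxA⟩⟩
        · exact ⟨Subgroup.mem_sup_right (Subgroup.subset_closure (Or.inr rfl)), fun a h =>
            congrFun (congrArg Subtype.val hfix) a⟩
    exact fun m hm => (hMF hm).2
  obtain ⟨ψ, hψ⟩ := exists_extension_of_isCyclic (N := A.subgroupOf M) (toSub hAM φ) (by
    intro m
    funext a
    rw [conjFun_apply]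
    refine (Eq.trans ?_ (hinv (m : G)⁻¹ (M.inv_mem m.2) ⟨(a : M), a.2⟩ ?_))
    · exact congrArg (φ : A → ℂ) (Subtype.ext (by simp))
    · exact (Subgroup.mem_normalizer_iff.1 (hMN (M.inv_mem m.2)) _).1 a.2)
  refine ⟨hKM, ψ, fun k => ?_⟩
  have h := hψ ⟨Subgroup.inclusion hKM k, hKA k.2⟩
  rw [← hφ k]
  exact h

/-- The coefficient-independent half: on a good element an extension is fixed by the elements
commuting with it modulo `K`. -/
theorem fixed_of_goodElt (θ : IrrCharacter K) {x : G} (hx : GoodElt θ x)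
    {A : Subgroup G} (hAdef : A = K ⊔ Subgroup.zpowers x) (hKA : K ≤ A) (hxA : x ∈ A)
    (φ : IrrCharacter A) (hφ : ∀ k : K, (φ : A → ℂ) (Subgroup.inclusion hKA k) = (θ : K → ℂ) k)
    {y : G} (hy : y * x * y⁻¹ * x⁻¹ ∈ K) (a : A) (ha : y * a * y⁻¹ ∈ A) :
    (φ : A → ℂ) ⟨y * a * y⁻¹, ha⟩ = (φ : A → ℂ) a := by
  classical
  set M := K ⊔ Subgroup.closure {x, y} with hMdef
  have hxy : ExtendsTo M θ := hx y hy
  obtain ⟨hKM, ψ, hψ⟩ := hxy
  have hAM : A ≤ M := hAdef ▸ sup_le le_sup_left (Subgroup.zpowers_le.2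
    (Subgroup.mem_sup_right (Subgroup.subset_closure (Or.inl rfl))))
  have hyM : y ∈ M := Subgroup.mem_sup_right (Subgroup.subset_closure (Or.inr rfl))
  have := Fintype.ofFinite A
  have := Fintype.ofFinite M
  have := Fintype.ofFinite (K.subgroupOf A)
  -- the restriction of `ψ` to `A` is irreducible
  have hirr : IsIrrCharacter A (fun b : A => (ψ : M → ℂ) (Subgroup.inclusion hAM b)) :=
    CfsgLib.Glauberman.isIrrCharacter_of_restrict (Subgroup.inclusion hKA)
      (CfsgLib.Chars.isCharacter_comp (CfsgLib.Chars.isCharacter_coe ψ) (Subgroup.inclusion hAM)) θ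
      (fun k => hψ k)
  obtain ⟨β, hβ⟩ := gallagher_exists ⟨_, hirr⟩ (toSub hKA θ) (fun n => hψ ⟨(n : A), n.2⟩) φ (by
    have h3 := NormalSylow.mult_eq_induced (K.subgroupOf A).subtype φ (toSub hKA θ)
    simp only [Subgroup.coe_subtype] at h3
    rw [h3, mult_toSub, mult_ne_zero_iff_finsum, finsum_eq_sum_of_fintype]
    simp only [hφ]
    have h5 := CfsgLib.Chars.Induced.classInner_irr_self θ
    intro h0
    simp only [classInner, h0, mul_zero] at h5
    exact zero_ne_one h5)
  rw [congrFun hβ ⟨y * a * y⁻¹, ha⟩, congrFun hβ a]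
  show (ψ : M → ℂ) ⟨y * a * y⁻¹, _⟩ * _ = (ψ : M → ℂ) ⟨a, _⟩ * _
  have h1 : ((⟨y * a * y⁻¹, ha⟩ : A) : A ⧸ K.subgroupOf A) = (a : A ⧸ K.subgroupOf A) := by
    obtain ⟨k₁, hk₁, z, hz, haz⟩ := Subgroup.mem_sup_of_normal_left.1 (hAdef ▸ a.2 : (a : G) ∈ K ⊔ Subgroup.zpowers x)
    obtain ⟨n, rfl⟩ := Subgroup.mem_zpowers_iff.1 hz
    rw [QuotientGroup.eq, Subgroup.mem_subgroupOf]
    show (y * (a : G) * y⁻¹)⁻¹ * (a : G) ∈ K
    have hq : ((y : G) : G ⧸ K) * (x : G ⧸ K) * ((y : G ⧸ K))⁻¹ = (x : G ⧸ K) := by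
      rw [← QuotientGroup.mk_inv, ← QuotientGroup.mk_mul, ← QuotientGroup.mk_mul,
        ← mul_inv_eq_one, ← QuotientGroup.mk_inv, ← QuotientGroup.mk_mul, QuotientGroup.eq_one_iff]
      exact hy
    have hq' : ((y : G) : G ⧸ K) * (x : G ⧸ K) ^ n * ((y : G ⧸ K))⁻¹ = (x : G ⧸ K) ^ n := by
      rw [← conj_zpow, hq]
    rw [← QuotientGroup.eq_one_iff, ← haz]
    simp only [QuotientGroup.mk_mul, QuotientGroup.mk_inv, QuotientGroup.mk_zpow,
      (QuotientGroup.eq_one_iff k₁).2 hk₁, one_mul, hq']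
    exact inv_mul_cancel _
  rw [h1]
  congr 1
  exact (congrArg (ψ : M → ℂ) (Subtype.ext rfl)).trans
    (CfsgLib.Chars.isClassFunction_coe ψ ⟨a, hAM a.2⟩ ⟨y, hyM⟩)

/-- **The number of irreducible characters over an invariant character.** -/
theorem card_over_eq_card_good (θ : IrrCharacter K) (hθ : ∀ g : G, conjIrr g θ = θ) :
    Nat.card {χ : IrrCharacter G // CfsgLib.Glauberman.mult K.subtype χ θ ≠ 0} =
      Nat.card {c : ConjClasses (G ⧸ K) //
        ∃ x : G, ConjClasses.mk (x : G ⧸ K) = c ∧ GoodElt θ x} := by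
  classical
  let Ov := {χ : IrrCharacter G // CfsgLib.Glauberman.mult K.subtype χ θ ≠ 0}
  let Cl := {c : ConjClasses (G ⧸ K) // ∃ x : G, ConjClasses.mk (x : G ⧸ K) = c ∧ GoodElt θ x}
  have hrep : ∀ c : Cl, ∃ x : G, ConjClasses.mk (x : G ⧸ K) = c.1 ∧ GoodElt θ x := fun c => c.2
  choose r hr hrg using hrep
  have hext : ∀ x : G, ExtendsTo (K ⊔ Subgroup.zpowers x) θ := extendsTo_zpowers θ hθ
  choose hKA η hη using hext
  have hcoef := fun (χ : Ov) (x : G) => exists_coset_coeff θ hθ rfl (hKA x) (Subgroup.mem_sup_right (Subgroup.mem_zpowers x)) (η x) (hη x) χ.1 χ.2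
  choose c hc using hcoef
  have hxA : ∀ x : G, x ∈ K ⊔ Subgroup.zpowers x :=
    fun x => Subgroup.mem_sup_right (Subgroup.mem_zpowers x)
  let ev : G → K → ℂ := fun x k =>
    (η x : (K ⊔ Subgroup.zpowers x : Subgroup G) → ℂ) (Subgroup.inclusion (hKA x) k * ⟨x, hxA x⟩)
  let Φ : (Ov → ℂ) →ₗ[ℂ] (Cl → ℂ) :=
    { toFun := fun a d => ∑ χ : Ov, a χ * c χ (r d)
      map_add' := fun a b => funext fun d => by simp [add_mul, Finset.sum_add_distrib]
      map_smul' := fun s a => funext fun d => by simp [Finset.mul_sum, mul_assoc] }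
  have hval : ∀ (a : Ov → ℂ) (x : G) (k : K),
      ∑ χ : Ov, a χ * (χ.1 : G → ℂ) ((k : G) * x) = (∑ χ : Ov, a χ * c χ x) * ev x k := by
    intro a x k
    rw [Finset.sum_mul]
    exact Finset.sum_congr rfl fun χ _ => by rw [hc χ x k]; ring
  have hinj : Function.Injective Φ := by
    rw [← LinearMap.ker_eq_bot, LinearMap.ker_eq_bot']
    intro a ha
    have hF : ∀ g : G, ∑ χ : Ov, a χ * (χ.1 : G → ℂ) g = 0 := by
      intro g
      by_cases hg : GoodElt θ g
      · let d : Cl := ⟨_, g, rfl, hg⟩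
        obtain ⟨q, hq⟩ := isConj_iff.1 (ConjClasses.mk_eq_mk_iff_isConj.1 (hr d))
        obtain ⟨y, rfl⟩ := QuotientGroup.mk_surjective q
        rw [← QuotientGroup.mk_inv, ← QuotientGroup.mk_mul, ← QuotientGroup.mk_mul,
          QuotientGroup.eq] at hq
        have h1 := hval a (r d) ⟨(y⁻¹ * g * y) * (r d)⁻¹, by
          have h := ‹K.Normal›.conj_mem _ hq (r d)
          rw [show (y⁻¹ * g * y) * (r d)⁻¹ =
            r d * ((y * r d * y⁻¹)⁻¹ * g) * (r d)⁻¹ * (r d * ((y * r d * y⁻¹)⁻¹ * g) * (r d)⁻¹)⁻¹ *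
              ((y⁻¹ * g * y) * (r d)⁻¹) by group]
          rw [show r d * ((y * r d * y⁻¹)⁻¹ * g) * (r d)⁻¹ * (r d * ((y * r d * y⁻¹)⁻¹ * g) * (r d)⁻¹)⁻¹ *
              ((y⁻¹ * g * y) * (r d)⁻¹) = r d * (y⁻¹ * ((y * r d * y⁻¹)⁻¹ * g) * y⁻¹⁻¹) * (r d)⁻¹ by group]
          exact ‹K.Normal›.conj_mem _ (‹K.Normal›.conj_mem _ hq _) _⟩
        have h0 : ∑ χ : Ov, a χ * c χ (r d) = 0 := congrFun ha d
        rw [h0, zero_mul] at h1
        rw [← h1]
        refine Finset.sum_congr rfl fun χ _ => ?_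
        congr 1
        show (χ.1 : G → ℂ) g = (χ.1 : G → ℂ) (y⁻¹ * g * y * (r d)⁻¹ * r d)
        rw [inv_mul_cancel_right]
        exact (CfsgLib.Chars.Induced.classFun_inv_conj (CfsgLib.Chars.isClassFunction_coe χ.1) y g).symm
      · refine Finset.sum_eq_zero fun χ _ => ?_
        have hc0 : c χ g = 0 := by
          by_contra h
          exact hg (goodElt_of_coeff θ hθ rfl (hKA g) (hxA g) (η g) (hη g) χ.1 (c χ g) h (hc χ g))
        have h1 := hc χ g 1
        rw [hc0, zero_mul, OneMemClass.coe_one, one_mul] at h1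
        rw [h1, mul_zero]
    have hli := (CfsgLib.Chars.linearIndependent_irr (G := G)).comp (fun χ : Ov => χ.1)
      Subtype.val_injective
    rw [Fintype.linearIndependent_iff] at hli
    exact funext fun χ => hli a (funext fun g => by
      simpa [Finset.sum_apply] using hF g) χ
  have hsurj : Function.Surjective Φ := by
    have hsingle : ∀ d : Cl, ∃ a, ∃ s : ℂ, s ≠ 0 ∧ Φ a = Pi.single d s := by
      intro d
      set A := K ⊔ Subgroup.zpowers (r d) with hA
      have := Fintype.ofFinite A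
      have := Fintype.ofFinite (K.subgroupOf A)
      let f : A → ℂ := fun b => if (b : G) * (r d)⁻¹ ∈ K then (η (r d) : A → ℂ) b else 0
      have hFcl := indFun_isClassFunction A f
      have hzero : ∀ χ : IrrCharacter G, CfsgLib.Glauberman.mult K.subtype χ θ = 0 →
          classInner (indFun A f) (χ : G → ℂ) = 0 := by
        intro χ hχ
        rw [classInner_indFun A f (CfsgLib.Chars.isClassFunction_coe χ)]
        simp only [classInner]
        rw [mul_eq_zero]
        right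
        rw [Finset.sum_congr rfl (g := fun b : A => ∑ β : IrrCharacter A,
          f b * ((CfsgLib.Glauberman.mult A.subtype χ β : ℂ) * conj ((β : A → ℂ) b))) fun b _ => by
            rw [show (χ : G → ℂ) (b : G) = (χ : G → ℂ) (A.subtype b) from rfl,
              restrict_eq_sum A.subtype χ b, map_sum, Finset.mul_sum]
            simp [map_mul], Finset.sum_comm]
        refine Finset.sum_eq_zero fun β _ => ?_
        by_cases hβ : CfsgLib.Glauberman.mult A.subtype χ β = 0
        · simp [hβ]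
        have hnot : ¬ CfsgLib.Chars.Induced.mult
            (fun n : K.subgroupOf A => (β : A → ℂ) n) (toSub (hKA (r d)) θ) ≠ 0 := by
          have h3 := NormalSylow.mult_eq_induced (K.subgroupOf A).subtype β (toSub (hKA (r d)) θ)
          simp only [Subgroup.coe_subtype] at h3
          rw [h3, mult_toSub]
          intro hb
          exact over_trans A.subtype (Subgroup.inclusion (hKA (r d))) χ β θ hβ hb hχ
        have hav := avg_mul_conj_eq_zero (η (r d)) (toSub (hKA (r d)) θ)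
          (fun n => hη (r d) ⟨(n : A), n.2⟩) β hnot ⟨r d, hxA (r d)⟩
        rw [mul_eq_zero] at hav
        have hav' := congrArg conj (hav.resolve_left (inv_ne_zero (card_subgroup_ne_zero _)))
        rw [map_sum, map_zero] at hav'
        simp only [map_mul, Complex.conj_conj] at hav'
        rw [Finset.sum_congr rfl (g := fun b : A => (CfsgLib.Glauberman.mult A.subtype χ β : ℂ) *
          (f b * conj ((β : A → ℂ) b))) (fun b _ => by ring), ← Finset.mul_sum]
        rw [mul_eq_zero]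
        right
        rw [← hav']
        simp only [f, ite_mul, zero_mul]
        rw [← Finset.sum_filter]
        refine Finset.sum_bij' (fun b hb => ⟨b * (⟨r d, hxA (r d)⟩ : A)⁻¹,
            Subgroup.mem_subgroupOf.2 (Finset.mem_filter.1 hb).2⟩)
          (fun n _ => (n : A) * ⟨r d, hxA (r d)⟩) (fun _ _ => Finset.mem_univ _)
          (fun n _ => Finset.mem_filter.2 ⟨Finset.mem_univ _, by
            show ((n : A) : G) * r d * (r d)⁻¹ ∈ K
            rw [mul_inv_cancel_right]; exact n.2⟩)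
          (fun b _ => by simp) (fun n _ => Subtype.ext (by simp)) fun b hb => ?_
        rw [inv_mul_cancel_right, mul_comm]
      have hexp : ∀ g, indFun A f g =
          ∑ χ : Ov, classInner (indFun A f) (χ.1 : G → ℂ) * (χ.1 : G → ℂ) g := by
        intro g
        rw [CfsgLib.Chars.eq_sum_classInner_mul hFcl g]
        rw [← Finset.sum_filter_add_sum_filter_not Finset.univ
          (fun χ : IrrCharacter G => CfsgLib.Glauberman.mult K.subtype χ θ ≠ 0),
          Finset.sum_eq_zero (s := Finset.univ.filter fun χ : IrrCharacter G =>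
            ¬ CfsgLib.Glauberman.mult K.subtype χ θ ≠ 0) (fun χ hχ => by
              rw [hzero χ (not_not.1 (Finset.mem_filter.1 hχ).2), zero_mul]), add_zero]
        exact Finset.sum_subtype _ (fun χ => by simp) _
      let stab := Finset.univ.filter fun y : G => y⁻¹ * r d * y * (r d)⁻¹ ∈ K
      let s : ℂ := (Nat.card A : ℂ)⁻¹ * stab.card
      have hs : s ≠ 0 := mul_ne_zero (inv_ne_zero (card_subgroup_ne_zero _))
        (Nat.cast_ne_zero.2 (Finset.card_pos.2 ⟨1, by simp [stab]⟩).ne')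
      refine ⟨fun χ => classInner (indFun A f) (χ.1 : G → ℂ), s, hs, funext fun d' => ?_⟩
      show ∑ χ : Ov, classInner (indFun A f) (χ.1 : G → ℂ) * c χ (r d') = _
      obtain ⟨k, hk⟩ := exists_ne_zero_coset (hKA (r d')) θ (η (r d')) (hη (r d')) (hxA (r d'))
      apply mul_right_cancel₀ (b := ev (r d') k) hk
      rw [← hval, ← hexp]
      have hterm : ∀ y : G, extendByZero A f (y⁻¹ * ((k : G) * r d') * y) =
          if y⁻¹ * ((k : G) * r d') * y * (r d)⁻¹ ∈ K then
            extendByZero A (η (r d) : A → ℂ) (y⁻¹ * ((k : G) * r d') * y) else 0 := by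
        intro y
        by_cases hA' : y⁻¹ * ((k : G) * r d') * y ∈ A
        · rw [extendByZero_mem f hA', extendByZero_mem _ hA']
        · rw [extendByZero_notMem f hA', extendByZero_notMem _ hA', ite_self]
      by_cases hd : d' = d
      · subst hd
        rw [Pi.single_eq_same]
        have hiff : ∀ y : G, y⁻¹ * ((k : G) * r d') * y * (r d')⁻¹ ∈ K ↔ y ∈ stab := by
          intro y
          simp only [stab, Finset.mem_filter, Finset.mem_univ, true_and]
          rw [show y⁻¹ * ((k : G) * r d') * y * (r d')⁻¹ =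
            (y⁻¹ * (k : G) * y⁻¹⁻¹) * (y⁻¹ * r d' * y * (r d')⁻¹) by group]
          exact K.mul_mem_cancel_left (‹K.Normal›.conj_mem _ k.2 _)
        simp only [indFun, hterm, hiff, ← Finset.sum_filter, Finset.filter_mem_eq_inter,
          Finset.univ_inter]
        rw [Finset.sum_congr rfl (g := fun _ => ev (r d') k) fun y hy => ?_, Finset.sum_const,
          nsmul_eq_mul, ← mul_assoc]
        have hy' : y⁻¹ * r d' * y⁻¹⁻¹ * (r d')⁻¹ ∈ K := by
          simpa [stab] using hy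
        have hmem : y⁻¹ * ((k : G) * r d') * y ∈ A := by
          rw [show y⁻¹ * ((k : G) * r d') * y =
            (y⁻¹ * ((k : G) * r d') * y * (r d')⁻¹) * r d' by group]
          exact A.mul_mem (Subgroup.mem_sup_left ((hiff y).2 hy)) (hxA (r d'))
        rw [extendByZero_mem _ hmem]
        have h := fixed_of_goodElt θ (hrg d') rfl (hKA (r d')) (hxA (r d')) (η (r d')) (hη (r d')) hy'
          (Subgroup.inclusion (hKA (r d')) k * ⟨r d', hxA (r d')⟩) (by simpa using hmem)
        exact (congrArg (η (r d') : A → ℂ) (Subtype.ext (by simp))).trans h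
      · rw [Pi.single_eq_of_ne hd, zero_mul]
        simp only [indFun, hterm]
        rw [Finset.sum_eq_zero fun y _ => if_neg fun hy => hd ?_, mul_zero]
        apply Subtype.ext
        rw [← hr d', ← hr d, ConjClasses.mk_eq_mk_iff_isConj, isConj_iff]
        refine ⟨((y : G) : G ⧸ K)⁻¹, ?_⟩
        have h1 : ((y⁻¹ * ((k : G) * r d') * y * (r d)⁻¹ : G) : G ⧸ K) = 1 :=
          (QuotientGroup.eq_one_iff _).2 hy
        simp only [QuotientGroup.mk_mul, QuotientGroup.mk_inv,
          (QuotientGroup.eq_one_iff (k : G)).2 k.2, one_mul] at h1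
        rw [inv_inv]
        exact mul_inv_eq_one.1 h1
    choose a s hs ha using hsingle
    intro v
    refine ⟨∑ d, (v d / s d) • a d, ?_⟩
    funext d
    simp only [map_sum, map_smul, ha, Finset.sum_apply, Pi.smul_apply, smul_eq_mul, Pi.single_apply,
      mul_ite, mul_zero]
    rw [Finset.sum_congr rfl (g := fun x => if d = x then v x else 0) fun x _ => by
      split_ifs <;> simp [hs x]]
    rw [Finset.sum_eq_single d (fun x _ hx => if_neg (Ne.symm hx))
      (fun h => absurd (Finset.mem_univ d) h), if_pos rfl]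
  have h := (LinearEquiv.ofBijective Φ ⟨hinj, hsurj⟩).finrank_eq
  rw [Module.finrank_fintype_fun_eq_card, Module.finrank_fintype_fun_eq_card] at h
  simpa [Nat.card_eq_fintype_card, Ov, Cl] using h

end CfsgLib.McKay
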